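import Groth.Agent.CurveDual.Family
import Groth.Agent.PicSmooth.Degree
import Groth.Agent.BettiNN.Basic
import Groth.Agent.W7Cover.Separable
import Groth.Agent.DualGeneric.SubL
import Groth.Agent.Nakai.SurfSeq

/-!
A family of curves of genus `g` descends to one over a ring of finite type over `ℤ`.
-/

set_option autoImplicit false
set_option backward.isDefEq.respectTransparency false
set_option backward.isDefEq.respectTransparency.types false
set_option linter.style.haveILetI false
set_option linter.unusedSectionVars false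
set_option maxHeartbeats 800000

universe u

open CategoryTheory CategoryTheory.Limits AlgebraicGeometry TopologicalSpace Opposite

noncomputable section

namespace Groth.Agent.CurveDual

/-- Enlarge a finitely generated subalgebra so that its spectrum lands in an open containing the image. -/
theorem exists_fg_into_open {A : Type u} [CommRing A] (A₁ : Subalgebra ℤ A) (hA₁ : A₁.FG)
    {W : Set (Spec (CommRingCat.of A₁))} (hW : IsOpen W)
    (h : ∀ z : Spec (CommRingCat.of A), Spec.map (CommRingCat.ofHom (algebraMap A₁ A)) z ∈ W) :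
    ∃ (A₂ : Subalgebra ℤ A) (hle : A₁ ≤ A₂), A₂.FG ∧ ∀ z : Spec (CommRingCat.of A₂),
      Spec.map (CommRingCat.ofHom (Subalgebra.inclusion hle).toRingHom) z ∈ W := by
  classical
  haveI : IsNoetherianRing A₁ := Algebra.FiniteType.isNoetherianRing ℤ A₁ (h := A₁.fg_iff_finiteType.1 hA₁)
  obtain ⟨J, hJ⟩ := (PrimeSpectrum.isClosed_iff_zeroLocus_ideal _).1 hW.isClosed_compl
  have htop : J.map (algebraMap A₁ A) = ⊤ := by
    by_contra hne
    obtain ⟨P, hP, hle⟩ := Ideal.exists_le_maximal _ hne
    have h1 := h ⟨P, hP.isPrime⟩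
    have h2 : Spec.map (CommRingCat.ofHom (algebraMap A₁ A)) ⟨P, hP.isPrime⟩ ∈
        PrimeSpectrum.zeroLocus (J : Set A₁) := Ideal.map_le_iff_le_comap.1 hle
    rw [← hJ] at h2
    exact h2 h1
  obtain ⟨m, c, hc⟩ := Submodule.fg_iff_exists_fin_generating_family.1 (IsNoetherian.noetherian J)
  have h1A : (1 : A) ∈ Ideal.span (Set.range fun i => algebraMap A₁ A (c i)) := by
    have : J.map (algebraMap A₁ A) = Ideal.span (Set.range fun i => algebraMap A₁ A (c i)) := by
      rw [← hc, ← Ideal.span, Ideal.map_span, ← Set.range_comp]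
      rfl
    rw [← this, htop]
    trivial
  obtain ⟨a, ha⟩ := Ideal.mem_span_range_iff_exists_fun.1 h1A
  let A₂ : Subalgebra ℤ A := A₁ ⊔ Algebra.adjoin ℤ (Set.range a)
  refine ⟨A₂, le_sup_left, hA₁.sup (Subalgebra.fg_def.2 ⟨Set.range a, Set.finite_range a, rfl⟩), fun z => ?_⟩
  by_contra hne
  have h2 : Spec.map (CommRingCat.ofHom (Subalgebra.inclusion (le_sup_left : A₁ ≤ A₂)).toRingHom) z ∈
      PrimeSpectrum.zeroLocus (J : Set A₁) := hJ ▸ hne
  let b : Fin m → A₂ := fun i => ⟨a i, (le_sup_right : _ ≤ A₂) (Algebra.subset_adjoin ⟨i, rfl⟩)⟩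
  have hb : (∑ i, b i * Subalgebra.inclusion (le_sup_left : A₁ ≤ A₂) (c i)) = 1 := Subtype.ext (by
    push_cast
    exact ha)
  refine z.isPrime.ne_top ((Ideal.eq_top_iff_one _).2 ?_)
  rw [← hb]
  exact Ideal.sum_mem _ fun i _ => Ideal.mul_mem_left _ _
    (h2 (hc ▸ Submodule.subset_span (Set.mem_range_self i) : c i ∈ J))

variable {X S : Scheme.{u}}

/-- The Betti numbers of the structure sheaf along a cartesian square. -/
theorem betti_structure_bc {P T : Scheme.{u}} {f : X ⟶ S} {q : P ⟶ X} {p : P ⟶ T} {σ : T ⟶ S} [IsProper f]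
    (sq : IsPullback q p f σ) (t : T) (i : ℕ) :
    PerfAux.betti p (Coh.structureModule P) t i = PerfAux.betti f (Coh.structureModule X) (σ t) i := by
  haveI : IsProper p := MorphismProperty.of_isPullback (P := @IsProper) sq ‹_›
  refine Eq.trans ?_ (PicSmooth.betti_of_isPullback sq (Coh.structureModule X) (QC.isQCoh_unit X) t i)
  letI : (p.fiber t).Over (Spec (CommRingCat.of (T.residueField t))) := ⟨p.fiberToSpecResidueField t⟩
  haveI : IsProper (p.fiber t ↘ Spec (CommRingCat.of (T.residueField t))) :=
    MorphismProperty.pullback_snd _ _ ‹IsProper p›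
  exact CurveRR.h_eq_of_iso ((Scheme.Modules.pullback (p.fiberι t)).mapIso (PicLoc.pullbackStructureIso q)).symm i

/-- A nonempty fibre has a nonzero function. -/
theorem one_le_betti_at (f : X ⟶ S) [IsProper f] (x : X) :
    1 ≤ PerfAux.betti f (Coh.structureModule X) (f x) 0 := by
  letI : (f.fiber (f x)).Over (Spec (CommRingCat.of (S.residueField (f x)))) := ⟨f.fiberToSpecResidueField (f x)⟩
  haveI : IsProper (f.fiber (f x) ↘ Spec (CommRingCat.of (S.residueField (f x)))) :=
    MorphismProperty.pullback_snd _ _ ‹IsProper f›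
  haveI := CurveRR.isNoetherian_of_proper (S.residueField (f x)) (f.fiber (f x))
  haveI : Nonempty (f.fiber (f x)) := ⟨f.asFiber x⟩
  have h := Nakai.h0_pos_of_section (S.residueField (f x)) RefStalk.isCoh_structureModule
    (s := 𝟙 (Coh.structureModule (f.fiber (f x)))) fun h => by
      haveI : Nonempty (⊤ : (f.fiber (f x)).Opens) := ⟨⟨Classical.arbitrary _, trivial⟩⟩
      exact one_ne_zero (α := Γ(f.fiber (f x), ⊤))
        (DFunLike.congr_fun (congrArg (fun k => (k.app ⊤).hom) h) (1 : Γ(f.fiber (f x), ⊤)))
  exact h.trans_eq (CurveRR.h_eq_of_iso (PicLoc.pullbackStructureIso (f.fiberι (f x))) 0).symm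

/-- A surjective proper morphism has nonzero functions on every fibre. -/
theorem one_le_betti_zero (f : X ⟶ S) [IsProper f] [Surjective f] (s : S) :
    1 ≤ PerfAux.betti f (Coh.structureModule X) s 0 := by
  obtain ⟨x, rfl⟩ := f.surjective s
  exact one_le_betti_at f x

variable (f : X ⟶ S) [IsProper f] [SmoothOfRelativeDimension 1 f] [Surjective f]

/-- Geometric connectedness from the functions on the fibres. -/
theorem geometricallyConnected_of_betti (h : ∀ s : S, PerfAux.betti f (Coh.structureModule X) s 0 < 2) :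
    GeometricallyConnected f := by
  haveI := smoothOfRelativeDimension_isStableUnderBaseChange (n := 1)
  rw [GeometricallyConnected.iff_geometricallyConnected_fiber]
  intro s
  letI : (f.fiber s).Over (Spec (CommRingCat.of (S.residueField s))) := ⟨f.fiberToSpecResidueField s⟩
  let π := f.fiber s ↘ Spec (CommRingCat.of (S.residueField s))
  haveI : IsProper π := MorphismProperty.pullback_snd _ _ ‹IsProper f›
  haveI : SmoothOfRelativeDimension 1 π := MorphismProperty.pullback_snd _ _ ‹SmoothOfRelativeDimension 1 f›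
  haveI : Smooth π := SmoothOfRelativeDimension.smooth 1 π
  have h0 : CurveRR.h (S.residueField s) (Coh.structureModule (f.fiber s)) 0 = 1 :=
    (CurveRR.h_eq_of_iso (PicLoc.pullbackStructureIso (f.fiberι s)).symm 0).trans
      ((Nat.le_of_lt_succ (h s)).antisymm (one_le_betti_zero f s))
  haveI : ConnectedSpace (f.fiber s) := DualGeneric.Sub.connectedSpace_of_h0 (S.residueField s) h0
  haveI : CompactSpace (f.fiber s) := QuasiCompact.compactSpace_of_compactSpace π
  haveI := RGDev.isIntegral_of_smooth_connected π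
  exact W7Cover.geometricallyConnected_of_h0 h0

omit [Surjective f] in
/-- The Euler characteristic of a fibre is `1 - g`. -/
theorem eulerChar_eq [GeometricallyConnected f] (s : S) :
    PerfAux.eulerChar f (Coh.structureModule X) s =
      1 - (PerfAux.betti f (Coh.structureModule X) s 1 : ℤ) := by
  haveI : Smooth f := SmoothOfRelativeDimension.smooth 1 f
  have hdim := dim_fiber_of_relDim f
  letI : (f.fiber s).Over (Spec (CommRingCat.of (S.residueField s))) := ⟨f.fiberToSpecResidueField s⟩
  haveI : IsProper (f.fiber s ↘ Spec (CommRingCat.of (S.residueField s))) :=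
    MorphismProperty.pullback_snd _ _ ‹IsProper f›
  have h0 : PerfAux.betti f (Coh.structureModule X) s 0 = 1 :=
    (CurveRR.h_eq_of_iso (k := S.residueField s) (X := f.fiber s)
      (PicLoc.pullbackStructureIso (f.fiberι s)) 0).trans (CurveFam.h0_fiber f s)
  rw [PerfAux.eulerChar, finsum_eq_sum_of_support_subset _ (s := Finset.range 2) ?_, Finset.sum_range_succ,
    Finset.sum_range_one, h0]
  · push_cast
    ring
  · intro i hi
    rw [Finset.coe_range, Set.mem_Iio]
    by_contra hge
    haveI : Subsingleton (PerfAux.fiberH f (Coh.structureModule X) s i) :=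
      subsingleton_fiberH_two f hdim _ s (Nat.le_of_not_lt hge)
    exact hi (by simp [PerfAux.betti, Module.finrank_zero_of_subsingleton])

end Groth.Agent.CurveDual
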