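import Groth.Agent.CurveDual.Trace
import Groth.Agent.SubgrpLocus.Basic
import Groth.Agent.RG.Dev.IntegralFibre
import Groth.Agent.W7Strat.Crit
import Groth.Agent.W7Hull.InvNear
import Groth.Agent.W7Cech.NNStatements

/-!
The direct images of the differentials of a family of curves.
-/

set_option autoImplicit false
set_option backward.isDefEq.respectTransparency false
set_option backward.isDefEq.respectTransparency.types false
set_option linter.style.haveILetI false
set_option linter.unusedSectionVars false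
set_option maxHeartbeats 800000

universe u

open CategoryTheory CategoryTheory.Limits AlgebraicGeometry TopologicalSpace Opposite
open Groth.Agent.FlatCx Groth.Agent.W7Cech

noncomputable section

namespace Groth.Agent.CurveDual

variable {X S : Scheme.{u}}

/-- The fibres of a family of curves given by the relative dimension have dimension one. -/
theorem dim_fiber_of_relDim (f : X ⟶ S) [IsProper f] [SmoothOfRelativeDimension 1 f] [GeometricallyConnected f]
    (s : S) : topologicalKrullDim ↥(f.fiber s) = 1 := by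
  letI : (f.fiber s).Over (Spec (CommRingCat.of (S.residueField s))) := ⟨f.fiberToSpecResidueField s⟩
  let π := f.fiber s ↘ Spec (CommRingCat.of (S.residueField s))
  haveI : IsProper π := MorphismProperty.pullback_snd _ _ ‹IsProper f›
  haveI := smoothOfRelativeDimension_isStableUnderBaseChange (n := 1)
  haveI : SmoothOfRelativeDimension 1 π := MorphismProperty.pullback_snd _ _ ‹SmoothOfRelativeDimension 1 f›
  haveI : Smooth π := SmoothOfRelativeDimension.smooth 1 π
  haveI : GeometricallyConnected π := MorphismProperty.pullback_snd _ _ ‹GeometricallyConnected f›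
  haveI : ConnectedSpace (f.fiber s) := GeometricallyConnected.connectedSpace_of_subsingleton (f := π)
  haveI : CompactSpace (f.fiber s) := QuasiCompact.compactSpace_of_compactSpace π
  haveI := RGDev.isIntegral_of_smooth_connected π
  obtain ⟨x⟩ : Nonempty (f.fiber s) := inferInstance
  rw [← SectRank.localDim_eq_dim π x, ← CMChart.fibreDimAt_eq_localDim π,
    LocalDimBC.fibreDimAt_of_smoothOfRelativeDimension 1 π x]
  rfl

variable (f : X ⟶ S) [IsProper f] [Smooth f] [GeometricallyConnected f]
  (hdim : ∀ s : S, topologicalKrullDim ↥(f.fiber s) = 1)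

include hdim in
/-- A family of curves is smooth of relative dimension one. -/
theorem smoothOfRelativeDimension_one : SmoothOfRelativeDimension 1 f := by
  refine SubgrpLocus.smoothOfRelativeDimension_of_fibreDimAt f 1 fun x => ?_
  haveI := CurveFam.isIntegral_fiber f hdim (f x)
  haveI : LocallyOfFiniteType (f.fiberToSpecResidueField (f x)) :=
    MorphismProperty.pullback_snd _ _ inferInstance
  have h1 : FlatMor.fibreDimAt f x = topologicalKrullDim ↥(f.fiber (f x)) :=
    SectRank.localDim_eq_dim (k := S.residueField (f x)) (f.fiberToSpecResidueField (f x)) (f.asFiber x)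
  rw [h1, hdim]
  rfl

include hdim in
/-- On the fibres: `h⁰ = g`, `h¹ = 1` and degree `2g - 2`, and nothing above. -/
theorem omega_fiber_facts (s : S) :
    letI : (f.fiber s).Over (Spec (S.residueField s)) := ⟨f.fiberToSpecResidueField s⟩
    CohIII.fiberRank f (Omega.sheaf f) 0 s = Curv2.genus (S.residueField s) (f.fiber s) ∧
      CohIII.fiberRank f (Omega.sheaf f) 1 s = 1 ∧
      Curv2.deg (S.residueField s) (f.fiber s) ((Scheme.Modules.pullback (f.fiberι s)).obj (Omega.sheaf f)) 1 =
        2 * (Curv2.genus (S.residueField s) (f.fiber s) : ℤ) - 2 := by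
  letI : (f.fiber s).Over (Spec (S.residueField s)) := ⟨f.fiberToSpecResidueField s⟩
  haveI : IsProper (f.fiber s ↘ Spec (CommRingCat.of (S.residueField s))) :=
    MorphismProperty.pullback_snd _ _ ‹IsProper f›
  haveI : Smooth (f.fiber s ↘ Spec (CommRingCat.of (S.residueField s))) :=
    MorphismProperty.pullback_snd _ _ ‹Smooth f›
  haveI := CurveFam.isIntegral_fiber f hdim s
  obtain ⟨e'⟩ := CurveFam.nonempty_omega_fiber f s
  obtain ⟨a0, a1, a2⟩ :=
    CurveOmega.omega_facts' (S.residueField s) (f.fiber s) (hdim s) (CurveFam.h0_fiber f s)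
  refine ⟨(CurveRR.h_eq_of_iso e' 0).trans a0, (CurveRR.h_eq_of_iso e' 1).trans a1, ?_⟩
  rw [Curv2.deg, CurveRR.euler_eq_of_iso e']
  exact a2

include hdim in
/-- No cohomology above degree one on the fibres. -/
theorem subsingleton_fiberH_two (F : X.Modules) (s : S) {i : ℕ} (hi : 2 ≤ i) :
    Subsingleton (CohIII.fiberH f F s i) := by
  letI : (f.fiber s).Over (Spec (S.residueField s)) := ⟨f.fiberToSpecResidueField s⟩
  haveI : IsProper (f.fiber s ↘ Spec (CommRingCat.of (S.residueField s))) :=
    MorphismProperty.pullback_snd _ _ ‹IsProper f›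
  exact CurveRR.subsingleton_of_two_le (k := S.residueField s) (hdim s).le _ i hi

section Inj

variable [HasInjectiveResolutions X.Modules]

include hdim in
/-- The higher direct images vanish above degree one. -/
theorem isZero_rpush_omega {i : ℕ} (hi : 2 ≤ i) : IsZero ((Coh.Rpush f i).obj (Omega.sheaf f)) := by
  have hL := CurveFam.isInvertible_omega f hdim
  have hF := W7Hull.isFP_of_isInvertible hL
  refine K0Coh.isZero_of_restrict_cover (fun _ => ⊤) (fun _ => trivial) fun _ => ?_
  exact W7Cech.isZero_restrict_of_vanish_nn f (FibDepth.isQCoh_of_isFP hF) hF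
    (W7Hull.isFlatOver_of_isInvertible f hL) i ⊤ fun y _ => subsingleton_fiberH_two f hdim _ y hi

include hdim in
/-- Over an affine open the sections of `R¹f_* Ω` are free of rank one. -/
theorem nonempty_rpush_omega_sections {V : S.Opens} (hV : IsAffineOpen V) :
    Nonempty (Γ((Coh.Rpush f 1).obj (Omega.sheaf f), V) ≃ₗ[Γ(S, V)] Γ(S, V)) := by
  haveI := smoothOfRelativeDimension_one f hdim
  have hL := CurveFam.isInvertible_omega f hdim
  let U : X.Opens := f ⁻¹ᵁ V
  let fV : U.toScheme ⟶ Spec (CommRingCat.of Γ(S, V)) := (f ∣_ V) ≫ hV.isoSpec.hom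
  letI : U.toScheme.Over (Spec (CommRingCat.of Γ(S, V))) := ⟨fV⟩
  have hsq : IsPullback U.ι fV f hV.fromSpec := by
    refine ((isPullback_morphismRestrict f V).flip).of_iso (Iso.refl _) (Iso.refl _) hV.isoSpec (Iso.refl _)
      ?_ ?_ ?_ ?_
    · simp [U]
    · simp [U, fV]
    · simp
    · simp
  haveI : IsProper (U.toScheme ↘ Spec (CommRingCat.of Γ(S, V))) :=
    MorphismProperty.of_isPullback (P := @IsProper) hsq ‹_›
  haveI := smoothOfRelativeDimension_isStableUnderBaseChange (n := 1)
  haveI : SmoothOfRelativeDimension 1 (U.toScheme ↘ Spec (CommRingCat.of Γ(S, V))) :=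
    MorphismProperty.of_isPullback (P := @SmoothOfRelativeDimension 1) hsq ‹_›
  haveI : GeometricallyConnected (U.toScheme ↘ Spec (CommRingCat.of Γ(S, V))) :=
    MorphismProperty.of_isPullback (P := @GeometricallyConnected) hsq ‹_›
  obtain ⟨c, hc, -⟩ := OmegaLib.existsUnique_diffCompat hsq.w.symm (OmegaLib.isUniversal_dOmega f)
    (OmegaSh.dOmega fV)
  haveI := OmegaLib.isIso_of_isPullback hsq (OmegaLib.isUniversal_dOmega f) (OmegaLib.isUniversal_dOmega fV) hc
  obtain ⟨eR⟩ := W7Cech.nonempty_rpush_sections f (Omega.sheaf f)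
    (FibDepth.isQCoh_of_isFP (W7Hull.isFP_of_isInvertible hL)) 1 hV
  obtain ⟨e1⟩ := nonempty_hh1_omega (A := Γ(S, V)) (X := U.toScheme)
  exact ⟨eR ≪≫ₗ (CohFinite.hhEquiv Γ(S, V)
    (((Scheme.Modules.restrictFunctorIsoPullback U.ι).app (Omega.sheaf f)) ≪≫ asIso c) 1) ≪≫ₗ e1⟩

include hdim in
/-- `R¹f_* Ω` is invertible. -/
theorem isInvertible_rpush_omega : PicF.IsInvertible ((Coh.Rpush f 1).obj (Omega.sheaf f)) := by
  have hL := CurveFam.isInvertible_omega f hdim
  let R := (Coh.Rpush f 1).obj (Omega.sheaf f)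
  haveI : R.IsQuasicoherent :=
    RPushQC.isQCoh_rpush f _ (FibDepth.isQCoh_of_isFP (W7Hull.isFP_of_isInvertible hL)) 1
  refine ZeroSch.isInvertible_of_rankOne fun y => ?_
  obtain ⟨V, hV, hy, -⟩ := exists_isAffineOpen_mem_and_subset (X := S) (x := y) (U := ⊤) trivial
  obtain ⟨e⟩ := nonempty_rpush_omega_sections f hdim hV
  haveI : Nontrivial Γ(S, V) := (hV.primeIdealOf ⟨y, hy⟩).nontrivial
  haveI : Module.Free Γ(S, V) Γ(R, V) := Module.Free.of_equiv e.symm
  haveI : Module.Finite Γ(S, V) Γ(R, V) := Module.Finite.equiv e.symm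
  obtain ⟨i⟩ := W7Cech.exists_iso_free_finrank (M := R) hV
  rw [e.finrank_eq, Module.finrank_self] at i
  exact ⟨V, hy, ⟨i⟩⟩

include hdim in
/-- On every affine open of the base the degree zero functor of the differentials is exact. -/
theorem omega_model_exact {V : S.Opens} {hV : IsAffineOpen V} (m : ModelNN f (Omega.sheaf f) hV) :
    (CohIII.TFun m.L 0).PreservesMonomorphisms ∧ (CohIII.TFun m.L 0).PreservesEpimorphisms := by
  have hfl := W7Cech.flatX m.L m.hL
  have he : (CohIII.TFun m.L 1).PreservesEpimorphisms :=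
    (T_epi_iff_mono_succ m.L hfl 1).2 (isZero_T_of_isZero_homology_all m.L
      (fun M => m.isZero_T f 2 (fun y _ => subsingleton_fiberH_two f hdim _ y le_rfl) M)).1
  have hW := (preservesEpi_iff_flat_opc m.L 1 hfl (up_prev_next _)).1 he
  obtain ⟨e⟩ := m.hR 1
  obtain ⟨e'⟩ := nonempty_rpush_omega_sections f hdim hV
  have hm1 : Module.Flat Γ(S, V) (Hm m.L 1) := Module.Flat.of_linearEquiv (e.symm ≪≫ₗ e')
  refine ⟨(T_epi_iff_mono_succ m.L hfl (-1)).1 (isZero_T_of_isZero_homology_all m.L (m.hneg (-1) (by omega))).2,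
    (T_epi_iff_mono_succ m.L hfl 0).2 ?_⟩
  exact (preservesMono_iff_flat_Hm m.L 1 hfl hW).2 hm1

include hdim in
/-- `f_* Ω` is locally free, of rank the genus of the fibres. -/
theorem push_omega_locFree (y : S) : ∃ U : S.Opens, y ∈ U ∧
    Nonempty (((Coh.push f).obj (Omega.sheaf f)).restrict U.ι ≅
      FlatMod.freeMod (↑U) (CohIII.fiberRank f (Omega.sheaf f) 0 y)) := by
  have hL := CurveFam.isInvertible_omega f hdim
  have hF := W7Hull.isFP_of_isInvertible hL
  obtain ⟨U, hyU, -, ⟨e⟩⟩ := locFree_of_good_nn f (FibDepth.isQCoh_of_isFP hF) hF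
    (W7Hull.isFlatOver_of_isInvertible f hL) 0 ⊤ (fun V hV _ m =>
      good_of_exact m.L m.hL _ (omega_model_exact f hdim m).1 (omega_model_exact f hdim m).2) y trivial
  exact ⟨U, hyU, ⟨(Scheme.Modules.restrictFunctor U.ι).mapIso
    (((Coh.push f).rightDerivedZeroIsoSelf).app _).symm ≪≫ e⟩⟩

end Inj

include hdim in
/-- The formation of `f_* Ω` commutes with every base change. -/
theorem isIso_bc0_omega {T X' : Scheme.{u}} (g : T ⟶ S) (f' : X' ⟶ T) (g' : X' ⟶ X)
    (hsq : IsPullback g' f' f g) : IsIso (CohBC.bc0 f g f' g' hsq.w (Omega.sheaf f)) := by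
  have hL := CurveFam.isInvertible_omega f hdim
  have hF := W7Hull.isFP_of_isInvertible hL
  have hq := FibDepth.isQCoh_of_isFP hF
  have hfl := W7Hull.isFlatOver_of_isInvertible f hL
  refine W7Strat.isIso_bc0_of_forall_epi f hq hfl (fun s => ?_) g f' g' hsq
  obtain ⟨U, hU, hsU, -⟩ := exists_isAffineOpen_mem_and_subset (X := S) (x := s) (U := ⊤) trivial
  obtain ⟨m⟩ := W7Cech.nonempty_ModelNN f hq hF hfl hU
  exact ⟨U, hU, m, hsU, (omega_model_exact f hdim m).2⟩

end Groth.Agent.CurveDual
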