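import Groth.Agent.CurveDual.Section
import Groth.Agent.PicFam.Product
import Groth.Agent.RG.Dev.IntegralFibre
import Groth.Agent.W7FlatBC.Main

/-!
The first direct image of the differentials of a family of curves is trivial, by the diagonal.
-/

set_option autoImplicit false
set_option backward.isDefEq.respectTransparency false
set_option backward.isDefEq.respectTransparency.types false
set_option linter.style.haveILetI false
set_option linter.unusedSectionVars false
set_option maxHeartbeats 800000

universe u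

open CategoryTheory CategoryTheory.Limits AlgebraicGeometry TopologicalSpace Opposite

noncomputable section

namespace Groth.Agent.CurveDual

variable {X S : Scheme.{u}} (f : X ⟶ S) [IsProper f] [Smooth f] [GeometricallyConnected f]
  (hdim : ∀ s : S, topologicalKrullDim ↥(f.fiber s) = 1)

/-- The canonical degree is kept by base change. -/
theorem hasCanDeg_of_isPullback {P T : Scheme.{u}} {q : P ⟶ X} {p : P ⟶ T} {σ : T ⟶ S} [IsProper p]
    (sq : IsPullback q p f σ) (hdim : ∀ s : S, topologicalKrullDim ↥(f.fiber s) = 1)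
    (hdim' : ∀ t : T, topologicalKrullDim ↥(p.fiber t) = 1) {L : X.Modules} (hL : PicF.IsInvertible L)
    (h : HasCanDeg f L) : HasCanDeg p ((Scheme.Modules.pullback q).obj L) := by
  intro t
  letI : (p.fiber t).Over (Spec (T.residueField t)) := ⟨p.fiberToSpecResidueField t⟩
  letI : (f.fiber (σ t)).Over (Spec (S.residueField (σ t))) := ⟨f.fiberToSpecResidueField (σ t)⟩
  haveI : IsProper (p.fiber t ↘ Spec (CommRingCat.of (T.residueField t))) :=
    MorphismProperty.pullback_snd _ _ ‹IsProper p›
  haveI : IsProper (f.fiber (σ t) ↘ Spec (CommRingCat.of (S.residueField (σ t)))) :=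
    MorphismProperty.pullback_snd _ _ ‹IsProper f›
  have hb : ∀ {M : X.Modules}, Coh.IsQCoh M → ∀ i,
      CurveRR.h (T.residueField t) ((Scheme.Modules.pullback (p.fiberι t)).obj ((Scheme.Modules.pullback q).obj M)) i =
        CurveRR.h (S.residueField (σ t)) ((Scheme.Modules.pullback (f.fiberι (σ t))).obj M) i :=
    fun {M} hM i => PicSmooth.betti_of_isPullback sq M hM t i
  have hq : Coh.IsQCoh L := TMul.isQCoh_of_isInvertible hL
  have hO := QC.isQCoh_unit X
  have h0 : ∀ i, CurveRR.h (T.residueField t) (Coh.structureModule (p.fiber t)) i =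
      CurveRR.h (S.residueField (σ t)) (Coh.structureModule (f.fiber (σ t))) i := fun i =>
    ((CurveRR.h_eq_of_iso ((Scheme.Modules.pullback (p.fiberι t)).mapIso (PicLoc.pullbackStructureIso q) ≪≫
        PicLoc.pullbackStructureIso (p.fiberι t)) i).symm.trans (hb hO i)).trans
      (CurveRR.h_eq_of_iso (PicLoc.pullbackStructureIso (f.fiberι (σ t))) i)
  have hg : Curv2.genus (T.residueField t) (p.fiber t) = Curv2.genus (S.residueField (σ t)) (f.fiber (σ t)) := h0 1
  have h1 := h (σ t)
  rw [Curv2.deg, CurveRR.euler_eq (hdim (σ t)).le, CurveRR.euler_eq (hdim (σ t)).le] at h1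
  rw [Curv2.deg, CurveRR.euler_eq (hdim' t).le, CurveRR.euler_eq (hdim' t).le, hb hq, hb hq, h0, h0, hg]
  exact h1

include hdim in
/-- **The diagonal trick.** A line bundle of canonical degree with trivial first direct image is the module of
differentials. -/
theorem nonempty_diag {L : X.Modules} (hL : PicF.IsInvertible L) (hdeg : HasCanDeg f L)
    [HasInjectiveResolutions X.Modules] (hR : PicF.IsInvertible ((Coh.Rpush f 1).obj L)) :
    Nonempty (CohB1.tensorMod (Omega.sheaf f) ((Scheme.Modules.pullback f).obj ((Coh.Rpush f 1).obj L)) ≅ L) := by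
  haveI := smoothOfRelativeDimension_one f hdim
  haveI := smoothOfRelativeDimension_isStableUnderBaseChange (n := 1)
  let p := pullback.snd f f
  let q := pullback.fst f f
  have sq : IsPullback q p f f := IsPullback.of_hasPullback f f
  haveI : IsProper p := MorphismProperty.of_isPullback (P := @IsProper) sq ‹_›
  haveI : SmoothOfRelativeDimension 1 p :=
    MorphismProperty.of_isPullback (P := @SmoothOfRelativeDimension 1) sq ‹_›
  haveI : Smooth p := SmoothOfRelativeDimension.smooth 1 p
  haveI : GeometricallyConnected p := MorphismProperty.of_isPullback (P := @GeometricallyConnected) sq ‹_›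
  haveI := RPushQC.hasInjectiveResolutions (pullback f f)
  have hdim' := dim_fiber_of_relDim p
  let x := pullback.diagonal f
  haveI : IsClosedImmersion (x ≫ p) := by rw [pullback.diagonal_snd]; infer_instance
  haveI : IsClosedImmersion x := IsClosedImmersion.of_comp x p
  have hxq : x ≫ q = 𝟙 X := pullback.diagonal_fst f
  have hI : PicF.IsInvertible (ClSub.idealMod x.ker) :=
    (Groth.Agent.S8914.result _).2 (SectCartier.isEffCartierIdeal_ker p x (pullback.diagonal_snd f))
  obtain ⟨E, hE, ⟨e0⟩⟩ := W7Hull.exists_tensor_inverse hI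
  have e : CohB1.tensorMod E (ClSub.idealMod x.ker) ≅ Coh.structureModule _ := TMul.commIso _ _ ≪≫ e0
  let N := (Scheme.Modules.pullback q).obj L
  let R := (Coh.Rpush f 1).obj L
  haveI : Flat q := MorphismProperty.of_isPullback (P := @Flat) sq.flip inferInstance
  haveI := RelPCS.preservesFiniteLimits_pullback q
  haveI := W7FlatBC.isIso_bcQ sq (TMul.isQCoh_of_isInvertible hL) 1
  let b : (Scheme.Modules.pullback f).obj R ≅ (Coh.Rpush p 1).obj N := asIso (CohBC.bcQ f f p q sq.w 1 L)
  have hN : PicF.IsInvertible N := PicLoc.isInvertible_pullback _ hL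
  obtain ⟨r⟩ := nonempty_rpush_iso_of_section p hdim' x (pullback.diagonal_snd f) hN
    (hasCanDeg_of_isPullback f sq hdim hdim' hL hdeg)
    (fun y => (PicLoc.isInvertible_pullback f hR y).imp fun U ⟨hy, ⟨c⟩⟩ =>
      ⟨hy, ⟨((Scheme.Modules.restrictFunctor U.ι).mapIso b).symm ≪≫ c⟩⟩) hE e
  obtain ⟨a1⟩ := TMul.nonempty_pullTensorIso x N E
  obtain ⟨a2⟩ := TMul.nonempty_pullTensorIso x E (ClSub.idealMod x.ker)
  let eN : (Scheme.Modules.pullback x).obj N ≅ L :=
    (Scheme.Modules.pullbackComp x q).app _ ≪≫ (Scheme.Modules.pullbackCongr hxq).app _ ≪≫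
      (Scheme.Modules.pullbackId X).app _
  let u : CohB1.tensorMod ((Scheme.Modules.pullback x).obj E) (Omega.sheaf f) ≅ Coh.structureModule X :=
    a2 ≪≫ (Scheme.Modules.pullback x).mapIso e ≪≫ PicLoc.pullbackStructureIso x
  let v : (Scheme.Modules.pullback f).obj R ≅ CohB1.tensorMod L ((Scheme.Modules.pullback x).obj E) :=
    b ≪≫ r ≪≫ a1.symm ≪≫ PicGrp.tensorModIso eN (Iso.refl _)
  exact ⟨TMul.commIso _ _ ≪≫ PicGrp.tensorModIso v (Iso.refl _) ≪≫ TMul.assocIso _ _ _ ≪≫
    PicGrp.tensorModIso (Iso.refl _) u ≪≫ TMul.commIso _ _ ≪≫ TMul.leftUnitIso _⟩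

include hdim in
/-- For a family of curves over any base, `R¹f_* Ω ≅ O`. -/
theorem nonempty_rpush_omega [HasInjectiveResolutions X.Modules] :
    Nonempty ((Coh.Rpush f 1).obj (Omega.sheaf f) ≅ Coh.structureModule S) := by
  have hΩ := CurveFam.isInvertible_omega f hdim
  obtain ⟨d⟩ := nonempty_diag f hdim hΩ (hasCanDeg_omega f hdim) (isInvertible_rpush_omega f hdim)
  obtain ⟨L', hL', ⟨θ⟩⟩ := W7Hull.exists_tensor_inverse hΩ
  let R := (Scheme.Modules.pullback f).obj ((Coh.Rpush f 1).obj (Omega.sheaf f))
  let θ' : CohB1.tensorMod L' (Omega.sheaf f) ≅ Coh.structureModule X := TMul.commIso _ _ ≪≫ θ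
  let e : R ≅ (Scheme.Modules.pullback f).obj (Coh.structureModule S) :=
    (TMul.leftUnitIso R).symm ≪≫ PicGrp.tensorModIso θ'.symm (Iso.refl _) ≪≫ TMul.assocIso _ _ _ ≪≫
      PicGrp.tensorModIso (Iso.refl _) d ≪≫ θ' ≪≫ (PicLoc.pullbackStructureIso f).symm
  haveI := RGDev.geometricallyIntegral_of_smooth f
  exact PicFam.nonempty_iso_of_pullback_iso f (isInvertible_rpush_omega f hdim)
    TMul.isInvertible_structureModule e

end Groth.Agent.CurveDual
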