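import Groth.Agent.CurveDual.Descent
import Groth.Agent.W7Hull.PushOne
import Groth.Agent.S0404
import Groth.Prelude.Def_ModelsG
import Groth.Prelude.Def_ClSub2

/-!
Flat proper families of fibre dimension at most one whose fibres have only constant functions.
-/

set_option autoImplicit false
set_option backward.isDefEq.respectTransparency false
set_option backward.isDefEq.respectTransparency.types false
set_option linter.style.haveILetI false
set_option linter.unusedSectionVars false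
set_option maxHeartbeats 800000

universe u

open CategoryTheory CategoryTheory.Limits AlgebraicGeometry TopologicalSpace Opposite
open Groth.Agent.QC (res resO res_res res_smul app_res res_self)
open TMul (IsGen)
open Groth.Agent.FlatCx Groth.Agent.W7Cech

noncomputable section

namespace Groth.Agent.CurveDual

variable {X S : Scheme.{u}} (f : X ⟶ S) [IsProper f]

/-- `hRank` of the structure sheaf of the fibre is its Betti number. -/
theorem hRank_eq_betti (s : S) (i : ℕ) :
    Models.hRank ↥(S.residueField s) (f.fiber s) (f.fiberToSpecResidueField s) (Coh.structureModule (f.fiber s)) i =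
      PerfAux.betti f (Coh.structureModule X) s i := by
  letI : (f.fiber s).Over (Spec (CommRingCat.of (S.residueField s))) := ⟨f.fiberToSpecResidueField s⟩
  haveI : IsProper (f.fiber s ↘ Spec (CommRingCat.of (S.residueField s))) :=
    MorphismProperty.pullback_snd _ _ ‹IsProper f›
  exact CurveRR.h_eq_of_iso (PicLoc.pullbackStructureIso (f.fiberι s)).symm i

/-- One-dimensional functions on a fibre are the constants. -/
theorem bijective_fiber_of_betti (s : S) (h : PerfAux.betti f (Coh.structureModule X) s 0 = 1) :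
    Function.Bijective ((f.fiberToSpecResidueField s).appTop.hom.comp
      (Scheme.ΓSpecIso (S.residueField s)).inv.hom) := by
  let k : Type u := S.residueField s
  let Z := f.fiber s
  letI : Z.Over (Spec (CommRingCat.of k)) := ⟨f.fiberToSpecResidueField s⟩
  haveI : IsProper (Z ↘ Spec (CommRingCat.of k)) := MorphismProperty.pullback_snd _ _ ‹IsProper f›
  letI : Algebra k Γ(Z, ⊤) := (Coh.toGlobal (Z ↘ Spec (CommRingCat.of k))).toAlgebra
  have h1 : Module.finrank k Γ(Z, ⊤) = 1 := by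
    letI := CurveRR.secMod k (Coh.structureModule Z) ⊤
    rw [← hRank_eq_betti] at h
    refine Eq.trans ?_ ((CurveRR.finrank_sec (k := k) (Coh.structureModule Z)).trans h)
    refine LinearEquiv.finrank_eq
      { toFun := fun x => x
        invFun := fun x => x
        map_add' := fun _ _ => rfl
        map_smul' := fun c x => ?_
        left_inv := fun _ => rfl
        right_inv := fun _ => rfl }
    show (show Γ(Z, ⊤) from Coh.toGlobal (Z ↘ Spec (CommRingCat.of k)) c) * (show Γ(Z, ⊤) from x) = _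
    exact congrArg (fun y : Γ(Z, ⊤) => y * (show Γ(Z, ⊤) from x)) (Groth.Agent.QC.resO_self _ _).symm
  haveI : Nontrivial Γ(Z, ⊤) := Module.nontrivial_of_finrank_pos (R := k) (by omega)
  refine ⟨RingHom.injective (algebraMap k Γ(Z, ⊤)), fun a => ?_⟩
  obtain ⟨c, hc⟩ := (finrank_eq_one_iff_of_nonzero' (1 : Γ(Z, ⊤)) one_ne_zero).mp h1 a
  rw [Algebra.smul_def, mul_one] at hc
  exact ⟨c, hc⟩

variable [Flat f] [LocallyOfFinitePresentation f]
  (h0 : ∀ s : S, PerfAux.betti f (Coh.structureModule X) s 0 = 1)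

include h0 in
theorem isIso_unitToPush : IsIso (ClSub.unitToPush f) := by
  have hb : ∀ W : S.Opens, Function.Bijective (f.app W).hom :=
    W7See.app_bijective_of_local f fun y =>
      W7Hull.exists_nhd_app_bijective_of_lfp f y (bijective_fiber_of_betti f y (h0 y))
  let φ := ClSub.unitToPush f
  haveI : Epi φ := InvGen.epi_of_locally φ fun U t y hy => ⟨U, le_rfl, hy, (hb U).2 _⟩
  haveI : Mono φ := (QC.mono_iff_app_injective _).2 fun W s t hst => (hb W).1 hst
  exact isIso_of_mono_of_epi φ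

variable [HasInjectiveResolutions X.Modules]

/-- Near a point whose fibre has only constant functions, `T⁰` is right exact. -/
theorem exists_nhd_epi_of_betti (y : S) (h : PerfAux.betti f (Coh.structureModule X) y 0 = 1) :
    ∃ W : S.Opens, y ∈ W ∧ ∀ (U : S.Opens) (hU : IsAffineOpen U), U ≤ W →
      ∀ m : ModelNN f (Coh.structureModule X) hU, (CohIII.TFun m.L 0).PreservesEpimorphisms := by
  let O := Coh.structureModule X
  have hq : Coh.IsQCoh O := QC.isQCoh_unit X
  have hF : CohB1.IsFP O := SchDense.isFP_unit X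
  have hfl : FlatMod.IsFlatOver f O := SchDense.isFlatOver_unit f
  let g := S.fromSpecResidueField y
  let f' := f.fiberToSpecResidueField y
  let ι := f.fiberι y
  have sq : IsPullback ι f' f g := IsPullback.of_hasPullback f g
  have hVU : ∀ U : S.Opens, y ∈ U → (⊤ : (Spec (S.residueField y)).Opens) ≤ g ⁻¹ᵁ U := fun U hU z _ => by
    change g z ∈ U
    rw [Scheme.fromSpecResidueField_apply]
    exact hU
  have hle : ∀ U : S.Opens, y ∈ U → f' ⁻¹ᵁ ⊤ ≤ ι ⁻¹ᵁ (f ⁻¹ᵁ U) := fun U hU z _ => by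
    change f (ι z) ∈ U
    rw [← Scheme.Hom.comp_apply, sq.w, Scheme.Hom.comp_apply]
    exact hVU U hU (show f' z ∈ (⊤ : (Spec (S.residueField y)).Opens) from trivial)
  have hf' : Function.Bijective (f'.app ⊤).hom :=
    (Function.Bijective.of_comp_iff _ (ConcreteCategory.bijective_of_isIso _)).1 (bijective_fiber_of_betti f y h)
  obtain ⟨V₀, hV₀, hyV₀, -⟩ := exists_isAffineOpen_mem_and_subset (x := y) (U := ⊤) trivial
  have hgen : IsGen (ModDesc.pullSectLE ι O (f ⁻¹ᵁ V₀) (f' ⁻¹ᵁ ⊤) (hle V₀ hyV₀) (1 : Γ(X, f ⁻¹ᵁ V₀))) := by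
    rw [ModDesc.pullSectLE_apply]
    exact (C1Cap.isGen_eta ι (W7Hull.isGen_one (f ⁻¹ᵁ V₀))).res _
  have hspan : W7Cech.SpanAt f O f' ι V₀ ⊤ (hle V₀ hyV₀) := by
    refine eq_top_iff.2 fun x _ => ?_
    obtain ⟨c, hc⟩ := hgen (f' ⁻¹ᵁ ⊤) le_rfl |>.2
      (show Γ((Scheme.Modules.pullback ι).obj O, f' ⁻¹ᵁ ⊤) from x)
    obtain ⟨b, rfl⟩ := hf'.2 c
    change (f'.app ⊤).hom b • res ((Scheme.Modules.pullback ι).obj O) le_rfl
      (ModDesc.pullSectLE ι O (f ⁻¹ᵁ V₀) (f' ⁻¹ᵁ ⊤) (hle V₀ hyV₀) (1 : Γ(X, f ⁻¹ᵁ V₀))) = _ at hc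
    rw [QC.res_self] at hc
    have hb : x = b • (show (W7Cech.SM f' ((Scheme.Modules.pullback ι).obj O) (f' ⁻¹ᵁ ⊤) le_rfl : Type u) from
        ModDesc.pullSectLE ι O (f ⁻¹ᵁ V₀) (f' ⁻¹ᵁ ⊤) (hle V₀ hyV₀) (1 : Γ(X, f ⁻¹ᵁ V₀))) := by
      refine hc.symm.trans ?_
      change (f'.app ⊤).hom b • ModDesc.pullSectLE ι O (f ⁻¹ᵁ V₀) (f' ⁻¹ᵁ ⊤) (hle V₀ hyV₀) (1 : Γ(X, f ⁻¹ᵁ V₀)) =
        (f'.appLE ⊤ (f' ⁻¹ᵁ ⊤) le_rfl).hom b •
          ModDesc.pullSectLE ι O (f ⁻¹ᵁ V₀) (f' ⁻¹ᵁ ⊤) (hle V₀ hyV₀) (1 : Γ(X, f ⁻¹ᵁ V₀))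
      rw [← f'.app_eq_appLE]
    rw [hb]
    exact Submodule.smul_mem _ b (Submodule.subset_span ⟨(1 : Γ(X, f ⁻¹ᵁ V₀)), rfl⟩)
  obtain ⟨W, hyW, -, hW⟩ := W7Cech.exists_nhd_epi_of_spanAt f O hq hF hfl y hV₀ hyV₀ _ hspan
  exact ⟨W, hyW, hW⟩

variable (hdim : ∀ s : S, topologicalKrullDim ↥(f.fiber s) ≤ 1)

include h0 hdim in
/-- The first direct image of the structure sheaf is locally free. -/
theorem isFinLocFree_rpush_one : FlatMod.IsFinLocFree ((Coh.Rpush f 1).obj (Coh.structureModule X)) := by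
  intro y
  have hq : Coh.IsQCoh (Coh.structureModule X) := QC.isQCoh_unit X
  have hF : CohB1.IsFP (Coh.structureModule X) := SchDense.isFP_unit X
  have hfl : FlatMod.IsFlatOver f (Coh.structureModule X) := SchDense.isFlatOver_unit f
  obtain ⟨W, hyW, hW⟩ := exists_nhd_epi_of_betti f y (h0 y)
  obtain ⟨U, hyU, -, e⟩ := locFree_of_good_nn f hq hF hfl 1 W (fun V hV hVW m => by
    refine good_of_exact m.L m.hL _ ((T_epi_iff_mono_succ m.L (flatX m.L m.hL) 0).1 (hW V hV hVW m))
      ((T_epi_iff_mono_succ m.L (flatX m.L m.hL) 1).2 (isZero_T_of_isZero_homology_all m.L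
        (fun M => m.isZero_T f 2 (fun z _ => ?_) M)).1)
    letI : (f.fiber z).Over (Spec (CommRingCat.of (S.residueField z))) := ⟨f.fiberToSpecResidueField z⟩
    haveI : IsProper (f.fiber z ↘ Spec (CommRingCat.of (S.residueField z))) :=
      MorphismProperty.pullback_snd _ _ ‹IsProper f›
    exact CurveRR.subsingleton_of_two_le (k := S.residueField z) (hdim z) _ 2 le_rfl) y hyW
  exact ⟨U, _, hyU, e⟩

end Groth.Agent.CurveDual
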