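import Groth.Agent.TraceSurj.Main
import Groth.Agent.SmDesc.Scheme
import Groth.Agent.SubgrpLocus.Basic
import Groth.Agent.LocalDimBC.Smooth
import Groth.Agent.GeomProp.SmoothPoint
import Groth.Agent.CMFlat.BaseChange

/-!
Noetherian models of proper smooth morphisms of given relative dimension.
-/

set_option autoImplicit false
set_option backward.isDefEq.respectTransparency false
set_option backward.isDefEq.respectTransparency.types false
set_option linter.style.haveILetI false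

universe u

open CategoryTheory Limits AlgebraicGeometry

noncomputable section

namespace Groth.Agent.CurveDual

open Groth.Agent.TraceSurj (Good isOpen_good good_baseChange)

/-- The points at which a morphism is smooth of relative dimension `n` and has good fibres. -/
def smSet {X Y : Scheme.{u}} (f : X ⟶ Y) [LocallyOfFinitePresentation f] (n : ℕ) : Set X :=
  {x | x ∈ f.smoothLocus ∧ Good f n x}

theorem isOpen_smSet {X Y : Scheme.{u}} (f : X ⟶ Y) [LocallyOfFinitePresentation f] (n : ℕ) :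
    IsOpen (smSet f n) := f.smoothLocus.isOpen.inter (isOpen_good f n)

theorem smSet_baseChange {X S X' S' : Scheme.{u}} {f : X ⟶ S} {g : S' ⟶ S} {g' : X' ⟶ X} {f' : X' ⟶ S'}
    [LocallyOfFinitePresentation f] [LocallyOfFinitePresentation f'] [Flat f] (hsq : IsPullback g' f' f g)
    (n : ℕ) (x' : X') : x' ∈ smSet f' n ↔ g' x' ∈ smSet f n := by
  simp only [smSet, Set.mem_setOf_eq, good_baseChange hsq n x',
    SmDesc.smoothLocus_eq_preimage hsq (Or.inl inferInstance)]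
  rfl

/-- A smooth morphism has good fibres. -/
theorem mem_smSet {X Y : Scheme.{u}} (f : X ⟶ Y) [LocallyOfFinitePresentation f] (n : ℕ)
    [SmoothOfRelativeDimension n f] (x : X) :
    x ∈ smSet f n := by
  haveI := SmoothOfRelativeDimension.smooth n f
  refine ⟨by rw [Scheme.Hom.smoothLocus_eq_top]; trivial, ⟨Flat.stalkMap f x, ?_⟩,
    LocalDimBC.fibreDimAt_of_smoothOfRelativeDimension n f x⟩
  haveI : Smooth (f.fiberToSpecResidueField (f x)) := MorphismProperty.pullback_snd _ _ inferInstance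
  haveI := GeomProp.regular_stalk_of_mem_smoothLocus (f.fiberToSpecResidueField (f x))
    (x := f.asFiber x) (by rw [Scheme.Hom.smoothLocus_eq_top]; trivial)
  exact CMFlat.isCohenMacaulayLocalRing_of_isRegularLocalRing _

theorem smoothOfRelativeDimension_of_smSet {X Y : Scheme.{u}} (f : X ⟶ Y) [LocallyOfFinitePresentation f]
    (n : ℕ) (h : ∀ x, x ∈ smSet f n) : SmoothOfRelativeDimension n f := by
  haveI : Smooth f := f.smoothLocus_eq_top_iff.1 (TopologicalSpace.Opens.ext (Set.eq_univ_of_forall fun x => (h x).1))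
  exact SubgrpLocus.smoothOfRelativeDimension_of_fibreDimAt f n fun x => (h x).2.2

/-- **a model over a Noetherian ring with good fibres** -/
theorem exists_smooth_model_fg {A : Type u} [CommRing A] {X : Scheme.{u}} [X.Over (Spec (CommRingCat.of A))]
    [IsProper (X ↘ Spec (CommRingCat.of A))] [Flat (X ↘ Spec (CommRingCat.of A))]
    [LocallyOfFinitePresentation (X ↘ Spec (CommRingCat.of A))] [Surjective (X ↘ Spec (CommRingCat.of A))]
    (n : ℕ) [SmoothOfRelativeDimension n (X ↘ Spec (CommRingCat.of A))] :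
    ∃ (A₁ : Subalgebra ℤ A) (X₁ : Scheme.{u}) (f₁ : X₁ ⟶ Spec (CommRingCat.of A₁)) (g₁ : X ⟶ X₁),
      A₁.FG ∧ IsNoetherianRing A₁ ∧ IsProper f₁ ∧ Flat f₁ ∧ LocallyOfFinitePresentation f₁ ∧ Surjective f₁ ∧
      IsPullback g₁ (X ↘ Spec (CommRingCat.of A)) f₁ (Spec.map (CommRingCat.ofHom (algebraMap A₁ A))) ∧
      SmoothOfRelativeDimension n f₁ := by
  classical
  let fX := X ↘ Spec (CommRingCat.of A)
  haveI : SmoothOfRelativeDimension n fX := ‹_›
  obtain ⟨A₀, hA₀, X₀, f₀, g, hp₀, hfl₀, hlfp₀, hsq⟩ := ProperModel.exists_model fX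
  haveI := hp₀; haveI := hfl₀; haveI := hlfp₀
  let q : Spec (CommRingCat.of A) ⟶ Spec (CommRingCat.of A₀) := Spec.map (CommRingCat.ofHom (algebraMap A₀ A))
  haveI : IsNoetherianRing A₀ :=
    Algebra.FiniteType.isNoetherianRing ℤ A₀ (h := A₀.fg_iff_finiteType.1 hA₀)
  have hopen : IsOpen (Set.range f₀ ∩ (f₀ '' (smSet f₀ n)ᶜ)ᶜ) :=
    f₀.isOpenMap.isOpen_range.inter (f₀.isClosedMap _ (isOpen_smSet f₀ n).isClosed_compl).isOpen_compl
  obtain ⟨J, hJ⟩ := (PrimeSpectrum.isClosed_iff_zeroLocus_ideal _).1 hopen.isClosed_compl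
  have hq : ∀ z : Spec (CommRingCat.of A), q z ∈ (Set.range f₀ ∩ (f₀ '' (smSet f₀ n)ᶜ)ᶜ) := fun z => by
    obtain ⟨x, hx⟩ := fX.surjective z
    have h1 : f₀ (g x) = q z := by
      rw [← hx, ← Scheme.Hom.comp_apply, hsq.w, Scheme.Hom.comp_apply]
    refine ⟨⟨g x, h1⟩, ?_⟩
    rintro ⟨x₀, hx₀, hx₀'⟩
    obtain ⟨w, hw₁, -⟩ := Scheme.Pullback.exists_preimage_pullback (f := f₀) (g := q) x₀ z hx₀'
    apply hx₀
    have h2 := (smSet_baseChange hsq n (hsq.isoPullback.inv w)).1 (mem_smSet fX n _)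
    rwa [← Scheme.Hom.comp_apply, IsPullback.isoPullback_inv_fst, hw₁] at h2
  have htop : J.map (algebraMap A₀ A) = ⊤ := by
    by_contra hne
    obtain ⟨P, hP, hle⟩ := Ideal.exists_le_maximal _ hne
    have h1 := hq ⟨P, hP.isPrime⟩
    have h2 : q ⟨P, hP.isPrime⟩ ∈ PrimeSpectrum.zeroLocus (J : Set A₀) := Ideal.map_le_iff_le_comap.1 hle
    rw [← hJ] at h2
    exact h2 h1
  obtain ⟨m, h, hh⟩ := Submodule.fg_iff_exists_fin_generating_family.1 (IsNoetherian.noetherian J)
  have h1A : (1 : A) ∈ Ideal.span (Set.range fun i => algebraMap A₀ A (h i)) := by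
    have : J.map (algebraMap A₀ A) = Ideal.span (Set.range fun i => algebraMap A₀ A (h i)) := by
      rw [← hh, ← Ideal.span, Ideal.map_span, ← Set.range_comp]
      rfl
    rw [← this, htop]
    trivial
  obtain ⟨a, ha⟩ := Ideal.mem_span_range_iff_exists_fun.1 h1A
  let A₁ : Subalgebra ℤ A := A₀ ⊔ Algebra.adjoin ℤ (Set.range a)
  have hA₁ : A₁.FG := hA₀.sup (Subalgebra.fg_def.2 ⟨Set.range a, Set.finite_range a, rfl⟩)
  haveI : IsNoetherianRing A₁ :=
    Algebra.FiniteType.isNoetherianRing ℤ A₁ (h := A₁.fg_iff_finiteType.1 hA₁)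
  let ι₀ : A₀ →+* A₁ := (Subalgebra.inclusion le_sup_left).toRingHom
  let r : Spec (CommRingCat.of A₁) ⟶ Spec (CommRingCat.of A₀) := Spec.map (CommRingCat.ofHom ι₀)
  let q₁ : Spec (CommRingCat.of A) ⟶ Spec (CommRingCat.of A₁) := Spec.map (CommRingCat.ofHom (algebraMap A₁ A))
  have hqr : q₁ ≫ r = q := by
    rw [← Spec.map_comp, ← CommRingCat.ofHom_comp]
    rfl
  let X₁ := pullback f₀ r
  let f₁ : X₁ ⟶ Spec (CommRingCat.of A₁) := pullback.snd f₀ r
  letI : X₁.Over (Spec (CommRingCat.of A₁)) := ⟨f₁⟩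
  let g₁ : X ⟶ X₁ := pullback.lift g (fX ≫ q₁) (by rw [Category.assoc, hqr, hsq.w])
  have hsq₁ : IsPullback g₁ fX f₁ q₁ := by
    refine IsPullback.of_right (h₁₂ := pullback.fst f₀ r) (h₂₂ := r) ?_ (pullback.lift_snd _ _ _)
      (IsPullback.of_hasPullback f₀ r)
    rw [pullback.lift_fst, hqr]
    exact hsq
  haveI : IsProper f₁ := MorphismProperty.pullback_snd _ _ inferInstance
  haveI : Flat f₁ := MorphismProperty.pullback_snd _ _ inferInstance
  haveI : LocallyOfFinitePresentation f₁ := MorphismProperty.pullback_snd _ _ inferInstance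
  haveI : IsProper (X₁ ↘ Spec (CommRingCat.of A₁)) := ‹IsProper f₁›
  haveI : Flat (X₁ ↘ Spec (CommRingCat.of A₁)) := ‹Flat f₁›
  have hr : ∀ z, r z ∈ (Set.range f₀ ∩ (f₀ '' (smSet f₀ n)ᶜ)ᶜ) := fun z => by
    by_contra hne
    have h2 : r z ∈ PrimeSpectrum.zeroLocus (J : Set A₀) := hJ ▸ hne
    refine z.isPrime.ne_top ((Ideal.eq_top_iff_one _).2 ?_)
    let b : Fin m → A₁ := fun i => ⟨a i, (le_sup_right : _ ≤ A₁) (Algebra.subset_adjoin ⟨i, rfl⟩)⟩
    have hb : (∑ i, b i * ι₀ (h i)) = 1 := Subtype.ext (by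
      push_cast
      exact ha)
    rw [← hb]
    exact Ideal.sum_mem _ fun i _ => Ideal.mul_mem_left _ _
      (h2 (hh ▸ Submodule.subset_span (Set.mem_range_self i) : h i ∈ J))
  have hgood₁ : ∀ x : X₁, x ∈ smSet f₁ n := fun x => by
    refine (smSet_baseChange (IsPullback.of_hasPullback f₀ r) n x).2 ?_
    by_contra hne
    refine (hr (f₁ x)).2 ⟨pullback.fst f₀ r x, hne, ?_⟩
    rw [← Scheme.Hom.comp_apply, pullback.condition, Scheme.Hom.comp_apply]
  haveI : Surjective (X₁ ↘ Spec (CommRingCat.of A₁)) := ⟨fun z => by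
    obtain ⟨x₀, hx₀⟩ := (hr z).1
    obtain ⟨w, -, hw⟩ := Scheme.Pullback.exists_preimage_pullback (f := f₀) (g := r) x₀ z hx₀
    exact ⟨w, hw⟩⟩
  exact ⟨A₁, X₁, f₁, g₁, hA₁, inferInstance, inferInstance, inferInstance, inferInstance, ‹Surjective (X₁ ↘ Spec (CommRingCat.of A₁))›, hsq₁, smoothOfRelativeDimension_of_smSet f₁ n hgood₁⟩

/-- a model over a Noetherian ring with good fibres -/
theorem exists_smooth_model {A : Type u} [CommRing A] {X : Scheme.{u}} [X.Over (Spec (CommRingCat.of A))]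
    [IsProper (X ↘ Spec (CommRingCat.of A))] [Flat (X ↘ Spec (CommRingCat.of A))]
    [LocallyOfFinitePresentation (X ↘ Spec (CommRingCat.of A))] [Surjective (X ↘ Spec (CommRingCat.of A))]
    (n : ℕ) [SmoothOfRelativeDimension n (X ↘ Spec (CommRingCat.of A))] :
    ∃ (A₁ : Subalgebra ℤ A) (X₁ : Scheme.{u}) (f₁ : X₁ ⟶ Spec (CommRingCat.of A₁)) (g₁ : X ⟶ X₁),
      IsNoetherianRing A₁ ∧ IsProper f₁ ∧ Flat f₁ ∧ LocallyOfFinitePresentation f₁ ∧ Surjective f₁ ∧
      IsPullback g₁ (X ↘ Spec (CommRingCat.of A)) f₁ (Spec.map (CommRingCat.ofHom (algebraMap A₁ A))) ∧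
      SmoothOfRelativeDimension n f₁ := by
  obtain ⟨A₁, X₁, f₁, g₁, -, h⟩ := exists_smooth_model_fg (A := A) (X := X) n
  exact ⟨A₁, X₁, f₁, g₁, h⟩

end Groth.Agent.CurveDual
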