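import Groth.Agent.CurveDual.Family
import Groth.Agent.SectCartier.Basic
import Groth.Agent.Nakai.PullIdeal
import Groth.Agent.AlmostBlow.Basic
import Groth.Agent.CurveRR.Cartier
import Groth.Agent.CurveRR.RatPoint
import Groth.Agent.SerrePn.ClosedTwist
import Groth.Agent.PnReg.WedgeLine
import Groth.Agent.RDerLib.LES
import Groth.Agent.W7Adic.Embed
import Groth.Agent.PicLocFin.PushUnit
import Groth.Agent.AbelMap.Sect

/-!
Twisting a line bundle of canonical degree on a family of curves by a section: the residue isomorphism.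
-/

set_option autoImplicit false
set_option backward.isDefEq.respectTransparency false
set_option backward.isDefEq.respectTransparency.types false
set_option linter.style.haveILetI false
set_option linter.unusedSectionVars false
set_option maxHeartbeats 800000

universe u

open CategoryTheory CategoryTheory.Limits AlgebraicGeometry TopologicalSpace Opposite

noncomputable section

namespace Groth.Agent.CurveDual

variable {Z T : Scheme.{u}} (p : Z ⟶ T) [IsProper p] [Smooth p] [GeometricallyConnected p]
  (hdim : ∀ t : T, topologicalKrullDim ↥(p.fiber t) = 1) (x : T ⟶ Z) (hx : x ≫ p = 𝟙 T)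

/-- The degree `2g - 2` on every fibre. -/
def HasCanDeg (N : Z.Modules) : Prop :=
  ∀ t : T, letI : (p.fiber t).Over (Spec (T.residueField t)) := ⟨p.fiberToSpecResidueField t⟩
    Curv2.deg (T.residueField t) (p.fiber t) ((Scheme.Modules.pullback (p.fiberι t)).obj N) 1 =
      2 * (Curv2.genus (T.residueField t) (p.fiber t) : ℤ) - 2

include hdim in
theorem hasCanDeg_omega : HasCanDeg p (Omega.sheaf p) := fun t => (omega_fiber_facts p hdim t).2.2

include hdim hx in
/-- The line bundle of a section has degree one on every fibre, so canonical degree twisted by it has no `H¹`. -/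
theorem subsingleton_fiberH_twist {N : Z.Modules} (hN : PicF.IsInvertible N) (hdeg : HasCanDeg p N)
    {L : Z.Modules} (hL : PicF.IsInvertible L)
    (e : CohB1.tensorMod L (ClSub.idealMod x.ker) ≅ Coh.structureModule Z) (t : T) :
    Subsingleton (CohIII.fiberH p (CohB1.tensorMod N L) t 1) := by
  let X := p.fiber t
  let k := T.residueField t
  letI : X.Over (Spec (CommRingCat.of k)) := ⟨p.fiberToSpecResidueField t⟩
  let π := X ↘ Spec (CommRingCat.of k)
  haveI : IsProper π := MorphismProperty.pullback_snd _ _ ‹IsProper p›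
  haveI : Smooth π := MorphismProperty.pullback_snd _ _ ‹Smooth p›
  haveI := smoothOfRelativeDimension_one p hdim
  haveI := smoothOfRelativeDimension_isStableUnderBaseChange (n := 1)
  haveI : SmoothOfRelativeDimension 1 π :=
    MorphismProperty.pullback_snd _ _ ‹SmoothOfRelativeDimension 1 p›
  haveI : IsIntegral X := CurveFam.isIntegral_fiber p hdim t
  haveI := CurveRR.isNoetherian_of_proper k X
  let σ : Spec (CommRingCat.of k) ⟶ T := T.fromSpecResidueField t
  let g : X ⟶ Z := p.fiberι t
  have sq : IsPullback g π p σ := IsPullback.of_hasPullback _ _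
  let s : Spec (CommRingCat.of k) ⟶ X :=
    sq.lift (σ ≫ x) (𝟙 _) (by rw [Category.assoc, hx, Category.comp_id, Category.id_comp])
  have hs : s ≫ π = 𝟙 _ := sq.lift_snd _ _ _
  have sqs : IsPullback σ s x g := by
    refine IsPullback.of_bot (v₂₁ := π) (v₂₂ := p) (h₃₁ := σ) ?_ (sq.lift_fst _ _ _).symm sq
    rw [hs, hx]
    exact IsPullback.of_vert_isIso ⟨by simp⟩
  haveI : IsClosedImmersion (x ≫ p) := by rw [hx]; infer_instance
  haveI : IsClosedImmersion x := IsClosedImmersion.of_comp x p
  haveI : IsClosedImmersion s := MorphismProperty.of_isPullback sqs ‹IsClosedImmersion x›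
  haveI : Subsingleton (Spec (CommRingCat.of k)) := inferInstanceAs (Subsingleton (PrimeSpectrum k))
  let y : Spec (CommRingCat.of k) := IsLocalRing.closedPoint k
  have hr : Set.range s = {s y} := Set.eq_singleton_iff_unique_mem.2 ⟨⟨y, rfl⟩, by
    rintro _ ⟨z, rfl⟩
    rw [Subsingleton.elim z y]⟩
  have hP : IsClosed ({s y} : Set X) := hr ▸ s.isClosedEmbedding.isClosed_range
  have hker : x.ker.comap g = Scheme.IdealSheafData.vanishingIdeal ⟨{s y}, hP⟩ := by
    rw [← AlmostBlow.ker_of_isPullback sqs, Nakai.ker_eq_vanishingIdeal]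
    refine congrArg _ (Closeds.ext ?_)
    rw [Scheme.Hom.support_ker]
    show closure (Set.range s) = _
    rw [hr, hP.closure_eq]
    rfl
  have hD : BlowUp.IsEffCartierIdeal (Scheme.IdealSheafData.vanishingIdeal ⟨{s y}, hP⟩) := by
    rw [← hker, ← AlmostBlow.ker_of_isPullback sqs]
    exact SectCartier.isEffCartierIdeal_ker π s hs
  obtain ⟨e'⟩ := Nakai.nonempty_pullback_idealMod g (SectCartier.isEffCartierIdeal_ker p x hx) (hker ▸ hD)
  obtain ⟨a⟩ := TMul.nonempty_pullTensorIso g L (ClSub.idealMod x.ker)
  obtain ⟨b⟩ := TMul.nonempty_pullTensorIso g N L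
  let Lt := (Scheme.Modules.pullback g).obj L
  have hLD : ClSub.IsInverseOf Lt (ClSub.idealMod (Scheme.IdealSheafData.vanishingIdeal ⟨{s y}, hP⟩)) :=
    ⟨PicGrp.tensorModIso (Iso.refl _) (e' ≪≫ eqToIso (congrArg ClSub.idealMod hker)).symm ≪≫ a ≪≫
      (Scheme.Modules.pullback g).mapIso e ≪≫ PicLoc.pullbackStructureIso _⟩
  have hNt : PicF.IsInvertible ((Scheme.Modules.pullback g).obj N) := PicLoc.isInvertible_pullback _ hN
  have hLt : PicF.IsInvertible Lt := PicLoc.isInvertible_pullback _ hL
  have hd := CurveRR.deg_tensor_cartier (k := k) (hdim t).le hD hLt hLD (CurveRR.isFinLocFreeOfRank_one hNt)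
  rw [CurveRR.h0_quotMod_ratPoint hP s hs (fun q => by rw [Subsingleton.elim q y]),
    hdeg t] at hd
  have h1 : Subsingleton (Coh.HH X (CohB1.tensorMod ((Scheme.Modules.pullback g).obj N) Lt) 1) := by
    refine CurveRR.subsingleton_h1 (k := k) (hdim t).le (CurveFam.h0_fiber p t) (TMul.isInvertible_tensorMod hNt hLt) ?_
    rw [hd]
    push_cast
    dsimp only [k, X]
    omega
  exact CohQC.hh_subsingleton_of_iso b 1 h1

include hdim hx in
/-- **Residue along a section.** For an invertible module `N` of canonical degree whose first direct image is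
invertible, that direct image is the restriction of `N(x)` to the section. -/
theorem nonempty_rpush_iso_of_section [HasInjectiveResolutions Z.Modules] {N : Z.Modules}
    (hN : PicF.IsInvertible N) (hdeg : HasCanDeg p N) (hR : PicF.IsInvertible ((Coh.Rpush p 1).obj N))
    {L : Z.Modules} (hL : PicF.IsInvertible L)
    (e : CohB1.tensorMod L (ClSub.idealMod x.ker) ≅ Coh.structureModule Z) :
    Nonempty ((Coh.Rpush p 1).obj N ≅ (Scheme.Modules.pullback x).obj (CohB1.tensorMod N L)) := by
  haveI := smoothOfRelativeDimension_one p hdim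
  haveI : IsClosedImmersion (x ≫ p) := by rw [hx]; infer_instance
  haveI : IsClosedImmersion x := IsClosedImmersion.of_comp x p
  let J := x.ker
  let M := CohB1.tensorMod N L
  have hM : PicF.IsInvertible M := TMul.isInvertible_tensorMod hN hL
  let W := (Scheme.Modules.pullback x).obj M
  -- the sequence
  have hS := PnReg.shortExact_tensor (ResDesc.isFinLocFree_of_isInvertible hM) (CurveRR.ideal_shortExact J)
  let eK : CohB1.tensorMod (ClSub.idealMod J) M ≅ N :=
    TMul.commIso _ _ ≪≫ TMul.assocIso _ _ _ ≪≫ PicGrp.tensorModIso (Iso.refl _) e ≪≫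
      TMul.commIso _ _ ≪≫ TMul.leftUnitIso _
  let eM : CohB1.tensorMod (Coh.structureModule Z) M ≅ M := TMul.leftUnitIso _
  -- the quotient is the section
  have hbij : ∀ U : x.image.Opens, Function.Bijective (x.toImage.app U) := fun U =>
    (ConcreteCategory.isIso_iff_bijective _).1 inferInstance
  haveI := PicLocFin.isIso_unit x.toImage hbij (TMul.isInvertible_structureModule (X := x.image))
  let ex : ClSub.quotMod J ≅ (Scheme.Modules.pushforward x).obj (Coh.structureModule T) :=
    (Scheme.Modules.pushforward x.imageι).mapIso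
      (asIso ((Scheme.Modules.pullbackPushforwardAdjunction x.toImage).unit.app (Coh.structureModule x.image)) ≪≫
        (Scheme.Modules.pushforward x.toImage).mapIso (PicLoc.pullbackStructureIso x.toImage)) ≪≫
      (Scheme.Modules.pushforwardComp x.toImage x.imageι).app _ ≪≫
      (Scheme.Modules.pushforwardCongr x.toImage_imageι).app _
  obtain ⟨eQ0⟩ := SerrePn.nonempty_pushTwist x (Coh.structureModule T) hM
  let eQ : CohB1.tensorMod (ClSub.quotMod J) M ≅ (Scheme.Modules.pushforward x).obj W :=
    PicGrp.tensorModIso ex (Iso.refl _) ≪≫ eQ0 ≪≫ (Scheme.Modules.pushforward x).mapIso (TMul.leftUnitIso _)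
  let e3 : ((Coh.push p).rightDerived 0).obj (CohB1.tensorMod (ClSub.quotMod J) M) ≅ W :=
    ((Coh.push p).rightDerivedZeroIsoSelf).app _ ≪≫ (Scheme.Modules.pushforward p).mapIso eQ ≪≫
      (Scheme.Modules.pushforwardComp x p).app _ ≪≫ (Scheme.Modules.pushforwardCongr hx).app _ ≪≫
      (Scheme.Modules.pushforwardId T).app _
  -- no first direct image of `M`
  have hM1 : IsZero ((Coh.Rpush p 1).obj M) := by
    have hF := W7Hull.isFP_of_isInvertible hM
    refine K0Coh.isZero_of_restrict_cover (fun _ => ⊤) (fun _ => trivial) fun _ => ?_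
    exact W7Cech.isZero_restrict_of_vanish_nn p (FibDepth.isQCoh_of_isFP hF) hF
      (W7Hull.isFlatOver_of_isInvertible p hM) 1 ⊤ fun t _ =>
        subsingleton_fiberH_twist p hdim x hx hN hdeg hL e t
  let Δ := RDerLib.derivedLES (Coh.push p)
  haveI : Epi (Δ.δ _ hS 0 1 rfl) :=
    (Δ.exact₁ _ hS 0 1 rfl).epi_f ((IsZero.of_iso hM1 ((Coh.Rpush p 1).mapIso eM)).eq_of_tgt _ _)
  let φ : W ⟶ (Coh.Rpush p 1).obj N := e3.inv ≫ Δ.δ _ hS 0 1 rfl ≫ ((Coh.Rpush p 1).mapIso eK).hom
  haveI : Epi φ := inferInstance
  haveI := W7Adic.isIso_of_epi_invertible (PicLoc.isInvertible_pullback x hM) hR φ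
  exact ⟨(asIso φ).symm⟩

end Groth.Agent.CurveDual
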