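import Groth.Agent.CurveDual.Model
import Groth.Agent.TraceSurj.Bijective
import Groth.Agent.SGA6Ext.Lambda
import Groth.Agent.FMTool.AVPhi
import Groth.Agent.AVMukai.Shift
import Groth.Agent.OmegaLib.BaseChange
import Groth.Agent.CurveFam.Omega
import Groth.Agent.Rigid.Smooth
import Groth.Agent.S3635

/-!
The top cohomology of the differentials of a family of curves over an affine base is free of rank one.
-/

set_option autoImplicit false
set_option backward.isDefEq.respectTransparency false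
set_option backward.isDefEq.respectTransparency.types false
set_option linter.style.haveILetI false
set_option linter.unusedSectionVars false
set_option synthInstance.maxHeartbeats 100000
set_option maxHeartbeats 800000

universe u

open CategoryTheory Limits AlgebraicGeometry

attribute [local instance] HasDerivedCategory.standard

noncomputable section

namespace Groth.Agent.CurveDual

open Groth.Agent.DCohShriek (unitD tildeQ isQCohD_inD)
open Groth.Agent.TraceSurj.AnyBase (gammaD gammaAdj shiftQ)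

/-- The differentials of a morphism smooth of relative dimension one form an invertible module. -/
theorem isInvertible_omega_relDim {Y T : Scheme.{u}} (f : Y ⟶ T) [IsProper f] [SmoothOfRelativeDimension 1 f] :
    PicF.IsInvertible (Omega.sheaf f) := by
  haveI : Smooth f := SmoothOfRelativeDimension.smooth 1 f
  refine ZeroSch.isInvertible_of_rankOne fun x => ?_
  obtain ⟨U, n, hxU, hiso, hn⟩ := OmegaLib.exists_free_rank_fibreDimAt (OmegaLib.isUniversal_dOmega f) x
  rw [LocalDimBC.fibreDimAt_of_smoothOfRelativeDimension 1 f x] at hn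
  obtain rfl : n = 1 := by exact_mod_cast hn.symm
  exact ⟨U, hxU, hiso⟩

/-- For a smooth proper morphism of relative dimension one, the right adjoint of `Rf_*` takes the structure
sheaf of an affine base to the differentials in degree `-1`. -/
theorem nonempty_adjoint_iso_omega {A : Type u} [CommRing A] {X : Scheme.{u}} [X.Over (Spec (CommRingCat.of A))]
    [IsProper (X ↘ Spec (CommRingCat.of A))] [SmoothOfRelativeDimension 1 (X ↘ Spec (CommRingCat.of A))]
    [Surjective (X ↘ Spec (CommRingCat.of A))]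
    [DCoh.HasRpush (X ↘ Spec (CommRingCat.of A))] {hf : DCoh.RpushPreservesQCoh (X ↘ Spec (CommRingCat.of A))}
    {a : DCoh.DQCoh (Spec (CommRingCat.of A)) ⥤ DCoh.DQCoh X}
    (adj : DCoh.RpushQ (X ↘ Spec (CommRingCat.of A)) hf ⊣ a) :
    Nonempty ((a.obj ((tildeQ A).obj (unitD A))).obj ≅
      (DCoh.inD X (Omega.sheaf (X ↘ Spec (CommRingCat.of A))))⟦(1 : ℤ)⟧) := by
  let fX := X ↘ Spec (CommRingCat.of A)
  haveI : Smooth fX := SmoothOfRelativeDimension.smooth 1 fX
  haveI : Flat fX := inferInstance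
  obtain ⟨A₁, X₁, f₁, g₁, hN, hp₁, hfl₁, hlfp₁, -, hsq₁, hsm₁⟩ := exists_smooth_model (A := A) (X := X) 1
  haveI := hN; haveI := hp₁; haveI := hfl₁; haveI := hlfp₁; haveI := hsm₁
  letI : X₁.Over (Spec (CommRingCat.of A₁)) := ⟨f₁⟩
  let φ := algebraMap A₁ A
  let g := Spec.map (CommRingCat.ofHom φ)
  haveI : CompactSpace X := QuasiCompact.compactSpace_of_compactSpace fX
  haveI : CompactSpace X₁ := QuasiCompact.compactSpace_of_compactSpace f₁
  haveI : QuasiSeparatedSpace X := quasiSeparatedSpace_of_quasiSeparated fX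
  haveI : QuasiSeparatedSpace X₁ := quasiSeparatedSpace_of_quasiSeparated f₁
  haveI : QuasiCompact g₁ := quasiCompact_of_compactSpace g₁
  haveI : IsNoetherian (Spec (CommRingCat.of A₁)) := inferInstance
  haveI := DerPush.hasRpush_sch f₁
  haveI := DerPush.hasRpush_sch g
  haveI := DerPush.hasRpush_sch g₁
  haveI := KFlat.hasLpull g
  haveI := KFlat.hasLpull g₁
  have hf₁ : DCoh.RpushPreservesQCoh f₁ := fun E hE => DQPush.isQCohD_rpush f₁ hE
  have hg : DCoh.RpushPreservesQCoh g := fun E hE => DQPush.isQCohD_rpush g hE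
  have hg₁ : DCoh.RpushPreservesQCoh g₁ := fun E hE => DQPush.isQCohD_rpush g₁ hE
  have hLg : Dual3.LpullPreservesQCoh g := fun K hK => DQCoh.isQCohD_Lpull g K hK
  have hLg₁ : Dual3.LpullPreservesQCoh g₁ := fun K hK => DQCoh.isQCohD_Lpull g₁ K hK
  haveI : (DCoh.RpushQ f₁ hf₁).IsLeftAdjoint := DCohShriek.isLeftAdjoint_rpushQ f₁ hf₁
  let adj₁ : DCoh.RpushQ f₁ hf₁ ⊣ _ := Adjunction.ofIsLeftAdjoint _
  obtain ⟨adjg₀⟩ := DerPush.nonempty_lpull_adj_rpush g
  obtain ⟨adjg₁⟩ := DerPush.nonempty_lpull_adj_rpush g₁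
  let adjg := Dual3XI.adjQ hg hLg adjg₀
  let adjg' := Dual3XI.adjQ hg₁ hLg₁ adjg₁
  obtain ⟨e, hξ, -, hm⟩ := BCA.exists_bc hsq₁ (BCA.locHyp_of_flat hsq₁)
    (fun V hV W hW hWV gY HW => by
      haveI : IsAffine (V : Scheme.{u}) := hV
      haveI : CompactSpace (f₁ ⁻¹ᵁ V) := isCompact_iff_compactSpace.1 (f₁.isCompact_preimage hV.isCompact)
      haveI : QuasiSeparatedSpace (f₁ ⁻¹ᵁ V) := quasiSeparatedSpace_of_quasiSeparated (f₁ ⁻¹ᵁ V).ι
      exact BCA.locHyp_of_flat HW)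
    (fun P hP => ShriekAffine.isPerfect_rpush' f₁ hP)
    (fun P hP => ShriekAffine.isPerfect_rpush' fX hP) adj₁ adj adjg adjg'
  let OA := (tildeQ A₁).obj (unitD A₁)
  haveI := hm OA
  obtain ⟨u₀⟩ := PerfPush.nonempty_lpull_unit g
  let eL : (Dual3.LpullQ g hLg).obj OA ≅ (tildeQ A).obj (unitD A) := ObjectProperty.isoMk _
    ((DCoh.Lpull g).mapIso (TraceSurj.tildeUnitIso' A₁) ≪≫ u₀ ≪≫ (TraceSurj.tildeUnitIso' A).symm)
  let e1 : a.obj ((tildeQ A).obj (unitD A)) ≅ (Dual3.LpullQ g₁ hLg₁).obj (_ : DCoh.DQCoh X₁) :=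
    a.mapIso eL.symm ≪≫ (asIso (Dual3.bcMap adj₁ adj e adjg adjg' OA (hξ _))).symm
  obtain ⟨e2⟩ := S3635.result (Spec (CommRingCat.of A₁)) X₁ 1 f₁ hf₁ _ adj₁ OA
    ⟨TraceSurj.tildeUnitIso' A₁⟩ (Omega.sheaf f₁) (SGA6Ext.isExtPow_one _)
  obtain ⟨e3⟩ := AVMukai.nonempty_lpull_shift g₁ (DCoh.inD X₁ (Omega.sheaf f₁)) 1
  obtain ⟨e4⟩ := FMTool.nonempty_lpull_inD g₁ (isInvertible_omega_relDim f₁)
  obtain ⟨c, hc, -⟩ := OmegaLib.existsUnique_diffCompat hsq₁.w.symm (OmegaLib.isUniversal_dOmega f₁) (OmegaSh.dOmega fX)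
  haveI := OmegaLib.isIso_of_isPullback hsq₁ (OmegaLib.isUniversal_dOmega f₁) (OmegaLib.isUniversal_dOmega fX) hc
  exact ⟨(ObjectProperty.ι _).mapIso e1 ≪≫ (DCoh.Lpull g₁).mapIso e2 ≪≫ e3 ≪≫
    (shiftFunctor (DCoh.D X) (1 : ℤ)).mapIso (e4 ≪≫ FMTool.inDMap (asIso c))⟩

/-- The first cohomology of the differentials of a family of curves over an affine base is free of rank one. -/
theorem nonempty_hh1_omega {A : Type u} [CommRing A] {X : Scheme.{u}} [X.Over (Spec (CommRingCat.of A))]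
    [IsProper (X ↘ Spec (CommRingCat.of A))] [SmoothOfRelativeDimension 1 (X ↘ Spec (CommRingCat.of A))]
    [GeometricallyConnected (X ↘ Spec (CommRingCat.of A))]
:
    Nonempty (Coh.HH X (Omega.sheaf (X ↘ Spec (CommRingCat.of A))) 1 ≃ₗ[A] A) := by
  let fX := X ↘ Spec (CommRingCat.of A)
  haveI : Smooth fX := SmoothOfRelativeDimension.smooth 1 fX
  haveI : Surjective fX := inferInstance
  haveI : GeometricallyReduced fX := Rigid.geometricallyReduced_of_smooth fX
  haveI : CompactSpace X := QuasiCompact.compactSpace_of_compactSpace fX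
  haveI : QuasiSeparatedSpace X := quasiSeparatedSpace_of_quasiSeparated fX
  haveI : DCoh.HasRpush fX := DerPush.hasRpush_sch fX
  have hf : DCoh.RpushPreservesQCoh fX := fun E hE => DQPush.isQCohD_rpush fX hE
  haveI : (DCoh.RpushQ fX hf).IsLeftAdjoint := DCohShriek.isLeftAdjoint_rpushQ fX hf
  let adj : DCoh.RpushQ fX hf ⊣ _ := Adjunction.ofIsLeftAdjoint _
  have hgood : ∀ x : X, TraceSurj.Good fX 1 x := fun x => (mem_smSet fX 1 x).2
  have hvan : ∀ F : X.Modules, Coh.IsQCoh F → ∀ p : ℕ, 1 < p → Subsingleton (Coh.HH X F p) := fun F hF p hp =>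
    FibVan.subsingleton_hh_affine fX 1
      (fun y => TopDegRep.topologicalKrullDim_le_of_components _ 1 fun Z hZ =>
        LocalDimBC.hasRelDim_of_fibreDimAt fX 1 (fun x => (hgood x).2) y Z hZ) F hF p hp
  let K := (DCoh.RpushQ fX hf).rightAdjoint.obj ((tildeQ A).obj (unitD A))
  obtain ⟨eK⟩ := nonempty_adjoint_iso_omega adj
  let Ω := Omega.sheaf fX
  let ω := DCoh.HD K.obj (-((1 : ℕ) : ℤ))
  let eω : ω ≅ Ω := (DerivedCategory.homologyFunctor X.Modules (-((1 : ℕ) : ℤ))).mapIso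
      (eK ≪≫ (SingleFunctors.shiftIso (DerivedCategory.singleFunctors X.Modules) (1 : ℤ) (-1) 0 (by omega)).app Ω) ≪≫
    (DerivedCategory.singleFunctorCompHomologyFunctorIso X.Modules (-((1 : ℕ) : ℤ))).app Ω
  have hω : Coh.IsQCoh ω := K.property _
  obtain ⟨t, ht⟩ := TraceSurj.AnyBase.exists_trace adj 1 hvan (unitD A) hω
  let s₀ : Dual.HD A (unitD A) 0 ≃ₗ[A] A :=
    ((DerivedCategory.singleFunctorCompHomologyFunctorIso (ModuleCat.{u} A) 0).app (ModuleCat.of A A)).toLinearEquiv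
  let γ : Coh.HH X ω 1 →ₗ[A] A := s₀.toLinearMap.comp t
  have hex : ∀ F : X.Modules, Coh.IsQCoh F → ∀ g : Coh.HH X F 1 →ₗ[A] A, ∃ φ : F ⟶ ω, ∀ x,
      γ (Sheaf.H.map ((SheafOfModules.toSheaf X.ringCatSheaf).map φ) 1 x) = g x := fun F hF g => by
    obtain ⟨φ, hφ, -⟩ := ht F hF (s₀.symm.toLinearMap.comp g)
    exact ⟨φ, fun x => (congrArg s₀ (hφ x)).symm.trans (s₀.apply_symm_apply (g x))⟩
  have huniq : ∀ φ ψ : ω ⟶ ω, (∀ x : Coh.HH X ω 1, γ (Sheaf.H.map ((SheafOfModules.toSheaf X.ringCatSheaf).map φ) 1 x) =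
      γ (Sheaf.H.map ((SheafOfModules.toSheaf X.ringCatSheaf).map ψ) 1 x)) → φ = ψ := fun φ ψ h => by
    obtain ⟨φ₀, -, hu⟩ := ht ω hω (t.comp (CohFinite.hhMap A φ 1))
    exact (hu φ fun x => rfl).trans (hu ψ fun x => s₀.injective (h x)).symm
  have hsurj : Function.Surjective γ := by
    obtain ⟨F, hF, g, hg⟩ := TraceSurj.exists_surjective_functional 1 hgood
    obtain ⟨φ, hφ⟩ := hex F hF g
    intro a
    obtain ⟨x, hx⟩ := hg a
    exact ⟨_, (hφ x).trans hx⟩
  exact ⟨(CohFinite.hhEquiv A eω 1).symm ≪≫ₗ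
    LinearEquiv.ofBijective γ (TraceSurj.bijective_trace 1 hgood ω hω γ huniq hex hsurj)⟩

end Groth.Agent.CurveDual
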